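import Groth.Agent.CurvSt.K856.UnramCount
import Groth.Agent.CurvSt.K901.SchPre
import Groth.Agent.Curves.K786.NodeFibre
import Groth.Agent.Sga7.H734.NodalBC
import Groth.Agent.SDiv.K474.FittOmega
import Groth.Agent.S6570
import Groth.Agent.S8916

/-!
# The number of nodes of the geometric fibres of a proper nodal family is upper semicontinuous

The nodes of a geometric fibre are the lifts of the geometric point to the singular subscheme
`V(Fitt₁ Ω)`, which is finite and unramified over the base.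
-/

set_option autoImplicit false
universe u
open CategoryTheory CategoryTheory.Limits AlgebraicGeometry TopologicalSpace

namespace K856.NodeCount

open K856.UnramCount Groth.Agent

/-- The singular subscheme. -/
noncomputable abbrev J {C T : Scheme.{u}} (f : C ⟶ T) [QuasiSeparated f] : C.IdealSheafData :=
  Fitt.sheafIdeal (Omega.sheaf f) 1

variable {C T : Scheme.{u}} (f : C ⟶ T) [IsProper f]

theorem isFinite (hf : Curv2.IsNodalFamily f) : IsFinite ((J f).subschemeι ≫ f) := by
  have h1 := ((S6570.result f).1 hf).2.2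
  have h2 := Desc.LQF.of_unramified ((J f).subschemeι ≫ f)
  exact IsFinite.of_isProper_of_locallyQuasiFinite _

theorem mem_support_iff (hf : Curv2.IsNodalFamily f) (x : C) :
    x ∈ (J f).support ↔ ¬ ∃ U : C.Opens, x ∈ U ∧ Smooth (U.ι ≫ f) := by
  have h1 := hf.1
  have h2 := hf.2.1
  exact S8916.result f 1 (fun s => by exact_mod_cast (hf.2.2 s).1) x

section fibre

variable {Ω : Type u} [Field Ω] [IsAlgClosed Ω] {t : Spec (CommRingCat.of Ω) ⟶ T} {X' : Scheme.{u}}
  {i : X' ⟶ C} {q : X' ⟶ Spec (CommRingCat.of Ω)}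

/-- Nodes of a geometric fibre. -/
theorem isNode_iff (hf : Curv2.IsNodalFamily f) (hP : IsPullback i q f t) (x : X') :
    @Curv2.IsNode Ω _ X' ⟨q⟩ x ↔ IsClosed ({x} : Set X') ∧ i x ∈ (J f).support := by
  have hq : Curv2.IsNodalFamily q := Sga7.H734.NodalBC.isNodalFamily_of_isPullback hP hf
  have hqp : IsProper q := MorphismProperty.of_isPullback hP inferInstance
  have hlfp := hq.2.1
  obtain ⟨hN, hZ⟩ := (K901.SchPre.nodal_field_iff q).2 hq
  have h1 : i x ∈ (J f).support ↔ x ∈ (J q).support := by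
    change _ ↔ x ∈ (Fitt.sheafIdeal (Omega.sheaf q) 1).support
    rw [← SDiv.K474.FittOmega.comap_sheafIdeal_omega hP 1, Scheme.IdealSheafData.support_comap]
    rfl
  rw [h1, mem_support_iff q hq]
  constructor
  · intro hx
    refine ⟨hx.1, fun hs => ?_⟩
    letI : X'.Over (Spec (CommRingCat.of Ω)) := ⟨q⟩
    have i1 : LocallyOfFiniteType (X' ↘ Spec (CommRingCat.of Ω)) := inferInstanceAs (LocallyOfFiniteType q)
    have i2 : QuasiCompact (X' ↘ Spec (CommRingCat.of Ω)) := inferInstanceAs (QuasiCompact q)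
    have hne : Nonempty X' := ⟨x⟩
    exact K786.NodeFibre.not_isRegular_of_isNode Ω
      (CurvesB.NodalFibreH.topologicalKrullDim_eq_one_of_components hZ).le x hx
      (K786.NodeFibre.isRegular_of_smooth Ω x hs)
  · rintro ⟨hx, hs⟩
    rcases hN x hx with h | h
    · exact absurd h hs
    · exact h

/-- The section of a geometric fibre attached to a lift. -/
noncomputable def sec (hP : IsPullback i q f t) (l : Spec (CommRingCat.of Ω) ⟶ (J f).subscheme)
    (hl : l ∈ lifts ((J f).subschemeι ≫ f) t) : Spec (CommRingCat.of Ω) ⟶ X' :=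
  hP.lift (l ≫ (J f).subschemeι) (𝟙 _) (by
    rw [Category.assoc, Category.id_comp]
    exact hl)

theorem sec_i (hP : IsPullback i q f t) (l : Spec (CommRingCat.of Ω) ⟶ (J f).subscheme)
    (hl : l ∈ lifts ((J f).subschemeι ≫ f) t) : sec f hP l hl ≫ i = l ≫ (J f).subschemeι := hP.lift_fst _ _ _

theorem sec_q (hP : IsPullback i q f t) (l : Spec (CommRingCat.of Ω) ⟶ (J f).subscheme)
    (hl : l ∈ lifts ((J f).subschemeι ≫ f) t) : sec f hP l hl ≫ q = 𝟙 _ := hP.lift_snd _ _ _

theorem isClosed_sec {q : X' ⟶ Spec (CommRingCat.of Ω)} [IsSeparated q] (a : Spec (CommRingCat.of Ω) ⟶ X')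
    (ha : a ≫ q = 𝟙 _) : IsClosed ({a (IsLocalRing.closedPoint Ω)} : Set X') := by
  have h1 : IsClosedImmersion (a ≫ q) := by rw [ha]; infer_instance
  have h2 : IsClosedImmersion a := IsClosedImmersion.of_comp a q
  have h3 : ({a (IsLocalRing.closedPoint Ω)} : Set X') = Set.range a := by
    ext y
    constructor
    · rintro rfl
      exact ⟨IsLocalRing.closedPoint Ω, rfl⟩
    · rintro ⟨z, rfl⟩
      rw [Subsingleton.elim (α := PrimeSpectrum Ω) z (IsLocalRing.closedPoint Ω)]
      rfl
  rw [h3]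
  exact a.isClosedEmbedding.isClosed_range

/-- A field-valued point in the support of an ideal sheaf factors through the closed subscheme. -/
theorem exists_factor (I : C.IdealSheafData) (b : Spec (CommRingCat.of Ω) ⟶ C)
    (hb : b (IsLocalRing.closedPoint Ω) ∈ I.support) :
    ∃ l : Spec (CommRingCat.of Ω) ⟶ I.subscheme, l ≫ I.subschemeι = b := by
  have h1 : b (IsLocalRing.closedPoint Ω) ∈ Set.range I.subschemeι := by
    rw [Scheme.IdealSheafData.range_subschemeι]
    exact hb
  obtain ⟨z, hz⟩ := h1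
  obtain ⟨w, -, -⟩ := Scheme.Pullback.exists_preimage_pullback (f := I.subschemeι) (g := b) z
    (IsLocalRing.closedPoint Ω) hz
  let j := pullback.snd I.subschemeι b
  have h3 : IsClosedImmersion j := inferInstanceAs (IsClosedImmersion (pullback.snd I.subschemeι b))
  have h4 : Surjective j := ⟨fun x => ⟨w, Subsingleton.elim (α := PrimeSpectrum Ω) _ _⟩⟩
  have h5 : IsIso j := isIso_of_isClosedImmersion_of_surjective j
  exact ⟨inv j ≫ pullback.fst I.subschemeι b, by
    rw [Category.assoc, pullback.condition, IsIso.inv_hom_id_assoc]⟩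

/-- The nodes of a geometric fibre are the lifts of the geometric point to the singular subscheme. -/
theorem encard_eq (hf : Curv2.IsNodalFamily f) (hP : IsPullback i q f t) :
    {x : X' | @Curv2.IsNode Ω _ X' ⟨q⟩ x}.encard = (lifts ((J f).subschemeι ≫ f) t).encard := by
  have hqp : IsProper q := MorphismProperty.of_isPullback hP inferInstance
  let F : ↥(lifts ((J f).subschemeι ≫ f) t) → ↥{x : X' | @Curv2.IsNode Ω _ X' ⟨q⟩ x} := fun l =>
    ⟨sec f hP l.1 l.2 (IsLocalRing.closedPoint Ω), (isNode_iff f hf hP _).2 ⟨isClosed_sec _ (sec_q f hP l.1 l.2), by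
      rw [← comp_pt, sec_i, comp_pt, ← SetLike.mem_coe, ← Scheme.IdealSheafData.range_subschemeι]
      exact ⟨_, rfl⟩⟩⟩
  refine (Set.encard_congr (Equiv.ofBijective F ⟨?_, ?_⟩)).symm
  · rintro ⟨l, hl⟩ ⟨l', hl'⟩ h
    have h1 : sec f hP l hl (IsLocalRing.closedPoint Ω) = sec f hP l' hl' (IsLocalRing.closedPoint Ω) :=
      congrArg Subtype.val h
    have h2 : sec f hP l hl = sec f hP l' hl' := ext_of_apply_closedPoint_eq q (sec_q _ _ _ _) (sec_q _ _ _ _) h1
    apply Subtype.ext
    change l = l'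
    rw [← cancel_mono (J f).subschemeι, ← sec_i f hP l hl, ← sec_i f hP l' hl', h2]
  · rintro ⟨x, hx⟩
    obtain ⟨hx1, hx2⟩ := (isNode_iff f hf hP x).1 hx
    let b := pointOfClosedPoint q x hx1
    have hbq : b ≫ q = 𝟙 _ := pointOfClosedPoint_comp q x hx1
    have hbx : b (IsLocalRing.closedPoint Ω) = x := pointOfClosedPoint_apply q x hx1 _
    obtain ⟨l, hl⟩ := exists_factor (J f) (b ≫ i) (by rw [comp_pt, hbx]; exact hx2)
    have hl' : l ∈ lifts ((J f).subschemeι ≫ f) t := by
      change l ≫ (J f).subschemeι ≫ f = t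
      rw [← Category.assoc, hl, Category.assoc, hP.w, ← Category.assoc, hbq, Category.id_comp]
    refine ⟨⟨l, hl'⟩, Subtype.ext ?_⟩
    change sec f hP l hl' (IsLocalRing.closedPoint Ω) = x
    have h3 : sec f hP l hl' = b := hP.hom_ext (by rw [sec_i, hl]) (by rw [sec_q, hbq])
    rw [h3, hbx]

end fibre

/-- The points all of whose geometric fibres have at least `n` nodes. -/
def Nd (n : ℕ) : Set T :=
  {s | ∀ (Ω : Type u) [Field Ω] [IsAlgClosed Ω] (t : Spec (CommRingCat.of Ω) ⟶ T),
    t (IsLocalRing.closedPoint Ω) = s → ∀ (X' : Scheme.{u}) (i : X' ⟶ C) (q : X' ⟶ Spec (CommRingCat.of Ω)),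
      IsPullback i q f t → (n : ℕ∞) ≤ {x : X' | @Curv2.IsNode Ω _ X' ⟨q⟩ x}.encard}

theorem isClosed_Nd (hf : Curv2.IsNodalFamily f) (n : ℕ) : IsClosed (Nd f n) := by
  have h1 := isFinite f hf
  have h2 := ((S6570.result f).1 hf).2.2
  have h3 : Nd f n = G ((J f).subschemeι ≫ f) n := by
    ext s
    constructor
    · intro h Ω _ _ t ht
      rw [← encard_eq f hf (IsPullback.of_hasPullback f t)]
      exact h Ω t ht _ _ _ (IsPullback.of_hasPullback f t)
    · intro h Ω _ _ t ht X' i q hP
      rw [encard_eq f hf hP]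
      exact h Ω t ht
  rw [h3]
  exact isClosed_G n _

/-- A family is nodal if its geometric fibres are. -/
theorem isNodalFamily_of_geom {C T : Scheme.{u}} (f : C ⟶ T) [Flat f] [LocallyOfFinitePresentation f]
    (h : ∀ (Ω : Type u) [Field Ω] [IsAlgClosed Ω] (t : Spec (CommRingCat.of Ω) ⟶ T),
      Curv2.IsNodalFamily (pullback.snd f t)) : Curv2.IsNodalFamily f := by
  rw [K901.SchPre.isNodalFamily_iff]
  intro x
  obtain ⟨Ω, _, _, t, ht⟩ := exists_geom (f x)
  have h1 := (K901.SchPre.nodSet_iff f (IsPullback.of_hasPullback f t)).1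
    ((K901.SchPre.isNodalFamily_iff _).1 (h Ω t))
  have h2 : t.base (IsLocalRing.closedPoint Ω) = f x := ht
  rw [h2] at h1
  exact h1 x rfl

end K856.NodeCount
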