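import Groth.Agent.CurvSt.K856.NodeCount
import Groth.Agent.CurvSt.K901.EtSch

/-!
# The locus of geometric fibres with at least `n` nodes is closed (algebraic space total space)
-/

set_option autoImplicit false
universe u
open CategoryTheory CategoryTheory.Limits AlgebraicGeometry TopologicalSpace

namespace K856.NodeLocus

open CurvSt AlgSp K901.GeomFibAt K901.EtSch K856.NodeCount

variable {S : Scheme.{u}}

/-- At least `n` nodes. -/
def P (m n : ℕ) : FibProp.{u} m := fun Ω _ _ X' q _ => (n : ℕ∞) ≤ {x : ↥X' | @Curv2.IsNode Ω _ X' ⟨q⟩ x}.encard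

/-- Scheme families. -/
theorem isClosed_locus_sch {m g : ℕ} (n : ℕ) (B : PtFamObj S m) (h1 : Flat B.f) (h2 : IsProper B.f)
    (h3 : LocallyOfFinitePresentation B.f) (hB : SpIsPrestablePtd ((toSpFam S m).obj B) g) :
    IsClosed (locus (P m n) ((toSpFam S m).obj B)) := by
  have hN : Curv2.IsNodalFamily B.f := isNodalFamily_of_geom B.f fun Ω _ _ t => by
    have h4 := (geomFibAt_toSpFam_iff (P := fun Ω _ _ X' q x => StMap.IsPrestablePtd Ω X' q g x) B t).1
      ((geomFib_iff).1 hB Ω t) (pullback B.f t) (pullback.fst B.f t) (pullback.snd B.f t)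
      (IsPullback.of_hasPullback B.f t)
    have h5 := (K901.SchPre.prestable_field_iff g (pullback.snd B.f t) _
      (fun j => K901.SchPre.isClosed_markedPt B.f B.sect B.sect_f (IsPullback.of_hasPullback B.f t) j)).1 h4
    exact (K901.SchPre.isNodalFamily_iff _).2 h5.1
  have h6 : locus (P m n) ((toSpFam S m).obj B) = Nd B.f n := by
    ext s
    constructor
    · intro h Ω _ _ t ht X' i q hP
      exact (geomFibAt_toSpFam_iff B t).1 (h Ω t ht) X' i q hP
    · intro h Ω _ _ t ht
      exact (geomFibAt_toSpFam_iff B t).2 fun X' i q hP => h Ω t ht X' i q hP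
  rw [h6]
  exact isClosed_Nd B.f hN n

theorem isClosed_locus_of {m g : ℕ} (n : ℕ) {A : SpFamObj S m} (hA : IsCurveFam A) (hpre : SpIsPrestablePtd A g)
    (hE : EtLocSch A) : IsClosed (locus (P m n) A) := by
  rw [← isOpen_compl_iff, isOpen_iff_forall_mem_open]
  intro s hs
  obtain ⟨T', g', v, X', q, j, hg, rfl, sq⟩ := hE s
  obtain ⟨f1, f2, f3, f4⟩ := K901.SchFib.facts hA sq
  have hB : SpIsPrestablePtd ((toSpFam S m).obj (schFam A sq)) g := geomFib_iff.2 fun Ω _ _ t =>
    (geomFibAt_iff_of_hom (schFamHom A sq) t).2 ((geomFib_iff.1 hpre) Ω _)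
  have hC := isClosed_locus_sch n (schFam A sq) f1 f2 f3 hB
  have hg' : Etale (schFamHom A sq).base.left := hg
  refine ⟨g' '' (locus (P m n) ((toSpFam S m).obj (schFam A sq)))ᶜ, ?_, g'.isOpenMap _ hC.isOpen_compl, ?_⟩
  · rintro _ ⟨w, hw, rfl⟩ hw'
    exact hw ((mem_locus_iff_of_etale (schFamHom A sq) w).2 hw')
  · exact ⟨v, fun hv => hs ((mem_locus_iff_of_etale (schFamHom A sq) v).1 hv), rfl⟩

theorem isClosed_locus {g : ℕ}
    (A : (AlgSt.fullSub (CurvSt.Curves S 0) (fun A => CurvSt.SpIsPrestablePtd A.obj g)).obj) (n : ℕ)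
    (hE : ∀ B : (Curves S 0).obj, EtLocSch B.obj) : IsClosed (locus (P 0 n) A.obj.obj) :=
  isClosed_locus_of n A.obj.property A.property (hE A.obj)

end K856.NodeLocus
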