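import Mathlib.AlgebraicGeometry.Morphisms.FormallyUnramified
import Mathlib.AlgebraicGeometry.Morphisms.Finite
import Mathlib.AlgebraicGeometry.Morphisms.Proper
import Mathlib.AlgebraicGeometry.Morphisms.QuasiFinite
import Mathlib.AlgebraicGeometry.AlgClosed.Basic
import Mathlib.FieldTheory.IsAlgClosed.AlgebraicClosure

/-!
# The number of geometric points of a finite unramified morphism is upper semicontinuous

`isClosed_G`: for `h : Z ⟶ T` finite and unramified the set of the points of `T` over which all geometric fibres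
have at least `n` points is closed. Induction on `n`, replacing `h` by the second projection of the complement of
the diagonal in `Z ×_T Z`, which is open and closed.
-/

set_option autoImplicit false
universe u
open CategoryTheory CategoryTheory.Limits AlgebraicGeometry TopologicalSpace

namespace K856.UnramCount

variable {Z T : Scheme.{u}}

/-- The lifts of a geometric point. -/
def lifts (h : Z ⟶ T) {Ω : Type u} [Field Ω] (t : Spec (CommRingCat.of Ω) ⟶ T) :
    Set (Spec (CommRingCat.of Ω) ⟶ Z) := {l | l ≫ h = t}

/-- The points over which all geometric fibres have at least `n` points. -/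
def G (h : Z ⟶ T) (n : ℕ) : Set T :=
  {s | ∀ (Ω : Type u) [Field Ω] [IsAlgClosed Ω] (t : Spec (CommRingCat.of Ω) ⟶ T),
    t (IsLocalRing.closedPoint Ω) = s → (n : ℕ∞) ≤ (lifts h t).encard}

theorem comp_pt {X Y : Scheme.{u}} {Ω : Type u} [Field Ω] (a : Spec (CommRingCat.of Ω) ⟶ X) (f : X ⟶ Y) :
    (a ≫ f) (IsLocalRing.closedPoint Ω) = f (a (IsLocalRing.closedPoint Ω)) := rfl

theorem exists_geom {B : Scheme.{u}} (b : B) : ∃ (Ω : Type u) (_ : Field Ω) (_ : IsAlgClosed Ω)
    (σ : Spec (CommRingCat.of Ω) ⟶ B), σ (IsLocalRing.closedPoint Ω) = b :=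
  ⟨AlgebraicClosure (B.residueField b), inferInstance, inferInstance,
    Spec.map (CommRingCat.ofHom (algebraMap (B.residueField b) (AlgebraicClosure (B.residueField b)))) ≫
      B.fromSpecResidueField b, B.fromSpecResidueField_apply b _⟩

/-- A geometric point lifts through every point of a finite scheme over its image. -/
theorem exists_lift (h : Z ⟶ T) [IsFinite h] {Ω : Type u} [Field Ω] [IsAlgClosed Ω]
    (t : Spec (CommRingCat.of Ω) ⟶ T) (z : Z) (hz : h z = t (IsLocalRing.closedPoint Ω)) :
    ∃ t' : Spec (CommRingCat.of Ω) ⟶ Z, t' ≫ h = t ∧ t' (IsLocalRing.closedPoint Ω) = z := by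
  obtain ⟨w, hw1, -⟩ := Scheme.Pullback.exists_preimage_pullback (f := h) (g := t) z
    (IsLocalRing.closedPoint Ω) hz
  let p := pullback.snd h t
  have hp : IsFinite p := inferInstance
  have hsub : Subsingleton (Spec (CommRingCat.of Ω)) := inferInstanceAs (Subsingleton (PrimeSpectrum Ω))
  have hcl : IsClosed ({w} : Set ↑(pullback h t)) := by
    have h1 : _root_.IsDiscrete (p ⁻¹' {p w}) := p.isDiscrete_preimage_singleton _
    have h2 : p ⁻¹' {p w} = Set.univ := Set.eq_univ_of_forall fun y =>
      Subsingleton.elim (α := Spec (CommRingCat.of Ω)) _ _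
    rw [h2, isDiscrete_univ_iff] at h1
    exact isClosed_discrete _
  refine ⟨pointOfClosedPoint p w hcl ≫ pullback.fst h t, ?_, ?_⟩
  · rw [Category.assoc, pullback.condition, ← Category.assoc, pointOfClosedPoint_comp, Category.id_comp]
  · rw [comp_pt]
    refine (congrArg _ (pointOfClosedPoint_apply _ _ _ _)).trans hw1

section diag

variable (h : Z ⟶ T) [IsFinite h] [FormallyUnramified h]

/-- The complement of the diagonal. -/
noncomputable def U : (pullback h h).Opens :=
  ⟨(Set.range (pullback.diagonal h))ᶜ, (pullback.diagonal h).isClosedEmbedding.isClosed_range.isOpen_compl⟩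

omit [FormallyUnramified h] in
theorem mem_U (x : ↑(pullback h h)) : x ∈ U h ↔ x ∉ Set.range (pullback.diagonal h) := Iff.rfl

instance : IsClosedImmersion (U h).ι := by
  refine IsClosedImmersion.of_isPreimmersion _ ?_
  rw [Scheme.Opens.range_ι]
  change IsClosed (Set.range (pullback.diagonal h))ᶜ
  exact (pullback.diagonal h).isOpenEmbedding.isOpen_range.isClosed_compl

/-- The second projection of the complement of the diagonal. -/
noncomputable def snd' : ((U h) : Scheme.{u}) ⟶ Z := (U h).ι ≫ pullback.snd h h

instance : IsFinite (snd' h) := by unfold snd'; infer_instance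

instance : FormallyUnramified (snd' h) := by
  have h0 : MorphismProperty.IsStableUnderBaseChange @FormallyUnramified.{u} := inferInstance
  have : FormallyUnramified (pullback.snd h h) :=
    h0.of_isPullback (IsPullback.of_hasPullback h h) inferInstance
  have : FormallyUnramified (U h).ι := inferInstance
  exact MorphismProperty.comp_mem @FormallyUnramified _ _ this (by assumption)

/-- Removing a lift. -/
theorem encard_lifts {Ω : Type u} [Field Ω] {t : Spec (CommRingCat.of Ω) ⟶ T}
    (t' : Spec (CommRingCat.of Ω) ⟶ Z) (ht' : t' ≫ h = t) :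
    (lifts h t).encard = (lifts (snd' h) t').encard + 1 := by
  let F : (Spec (CommRingCat.of Ω) ⟶ ((U h) : Scheme.{u})) → (Spec (CommRingCat.of Ω) ⟶ Z) :=
    fun l => l ≫ (U h).ι ≫ pullback.fst h h
  have hinj : Set.InjOn F (lifts (snd' h) t') := by
    intro a ha b hb hab
    have ha' : a ≫ (U h).ι ≫ pullback.snd h h = t' := ha
    have hb' : b ≫ (U h).ι ≫ pullback.snd h h = t' := hb
    have hab' : a ≫ (U h).ι ≫ pullback.fst h h = b ≫ (U h).ι ≫ pullback.fst h h := hab
    rw [← cancel_mono (U h).ι]
    apply pullback.hom_ext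
    · rw [Category.assoc, Category.assoc, hab']
    · rw [Category.assoc, Category.assoc, ha', hb']
  have hnot : t' ∉ F '' (lifts (snd' h) t') := by
    rintro ⟨a, ha, hat⟩
    have ha' : a ≫ (U h).ι ≫ pullback.snd h h = t' := ha
    have hat' : a ≫ (U h).ι ≫ pullback.fst h h = t' := hat
    have h1 : a ≫ (U h).ι = t' ≫ pullback.diagonal h := by
      apply pullback.hom_ext
      · rw [Category.assoc, hat', Category.assoc, pullback.diagonal_fst, Category.comp_id]
      · rw [Category.assoc, ha', Category.assoc, pullback.diagonal_snd, Category.comp_id]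
    have h2 : (U h).ι (a (IsLocalRing.closedPoint Ω)) = pullback.diagonal h (t' (IsLocalRing.closedPoint Ω)) := by
      rw [← comp_pt, h1, comp_pt]
    exact (a (IsLocalRing.closedPoint Ω)).2 ⟨_, h2.symm⟩
  have heq : lifts h t = insert t' (F '' (lifts (snd' h) t')) := by
    ext l
    rw [Set.mem_insert_iff]
    constructor
    · intro hl
      by_cases hlt : l = t'
      · exact Or.inl hlt
      · right
        have hl' : l ≫ h = t' ≫ h := Eq.trans hl ht'.symm
        let m : Spec (CommRingCat.of Ω) ⟶ pullback h h := pullback.lift l t' hl'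
        have hm1 : m ≫ pullback.fst h h = l := pullback.lift_fst _ _ _
        have hm2 : m ≫ pullback.snd h h = t' := pullback.lift_snd _ _ _
        have hr : Set.range m ⊆ Set.range (U h).ι := by
          rw [Scheme.Opens.range_ι]
          rintro _ ⟨p, rfl⟩
          rw [SetLike.mem_coe, mem_U]
          intro hp
          have hr' : Set.range m ⊆ Set.range (pullback.diagonal h) := by
            rintro _ ⟨p', rfl⟩
            rwa [Subsingleton.elim (α := PrimeSpectrum Ω) p' p]
          have h3 := IsOpenImmersion.lift_fac (pullback.diagonal h) m hr'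
          apply hlt
          rw [← hm1, ← hm2, ← h3, Category.assoc, Category.assoc, pullback.diagonal_fst, pullback.diagonal_snd]
        refine ⟨IsOpenImmersion.lift (U h).ι m hr, ?_, ?_⟩
        · change IsOpenImmersion.lift (U h).ι m hr ≫ (U h).ι ≫ pullback.snd h h = t'
          rw [← Category.assoc, IsOpenImmersion.lift_fac, hm2]
        · change IsOpenImmersion.lift (U h).ι m hr ≫ (U h).ι ≫ pullback.fst h h = l
          rw [← Category.assoc, IsOpenImmersion.lift_fac, hm1]
    · rintro (rfl | ⟨a, ha, rfl⟩)
      · exact ht'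
      · have ha' : a ≫ (U h).ι ≫ pullback.snd h h = t' := ha
        change (a ≫ (U h).ι ≫ pullback.fst h h) ≫ h = t
        rw [Category.assoc, Category.assoc, pullback.condition, ← ht', ← ha', Category.assoc, Category.assoc]
  rw [heq, Set.encard_insert_of_notMem hnot, hinj.encard_image]

theorem G_succ (n : ℕ) : G h (n + 1) = h '' (G (snd' h) n) := by
  ext s
  constructor
  · intro hs
    obtain ⟨Ω, _, _, t, ht⟩ := exists_geom s
    have h1 := hs Ω t ht
    have h2 : (lifts h t).Nonempty := by
      rw [← Set.encard_pos]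
      refine lt_of_lt_of_le ?_ h1
      rw [Nat.cast_add, Nat.cast_one]
      exact lt_of_lt_of_le one_pos le_add_self
    obtain ⟨t', ht'⟩ := h2
    have ht'' : t' ≫ h = t := ht'
    have hz : h (t' (IsLocalRing.closedPoint Ω)) = s := by
      rw [← comp_pt, ht'', ht]
    refine ⟨t' (IsLocalRing.closedPoint Ω), fun Ω' _ _ t₁ ht₁ => ?_, hz⟩
    have h3 := hs Ω' (t₁ ≫ h) (by rw [comp_pt, ht₁, hz])
    rw [encard_lifts h t₁ rfl, Nat.cast_add, Nat.cast_one] at h3
    exact (ENat.add_le_add_iff_right ENat.one_ne_top).1 h3
  · rintro ⟨z, hz, rfl⟩ Ω _ _ t ht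
    obtain ⟨t', h1, h2⟩ := exists_lift h t z ht.symm
    rw [encard_lifts h t' h1, Nat.cast_add, Nat.cast_one]
    exact add_le_add_left (hz Ω t' h2) 1

end diag

theorem isClosed_G (n : ℕ) : ∀ {Z T : Scheme.{u}} (h : Z ⟶ T) [IsFinite h] [FormallyUnramified h],
    IsClosed (G h n) := by
  induction n with
  | zero =>
    intro Z T h _ _
    have : G h 0 = Set.univ := Set.eq_univ_of_forall fun s Ω _ _ t _ => by
      rw [Nat.cast_zero]; exact bot_le
    rw [this]
    exact isClosed_univ
  | succ n ih =>
    intro Z T h _ _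
    rw [G_succ]
    exact h.isClosedMap _ (ih (snd' h))

end K856.UnramCount
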